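-- Team project OELM (S5990), regime [R2E], package [ELLA] (helper65): assembly from
-- [ADEC], [GEOM2], [DUAL], [SUME], [NDEVEN].
import Mathlib
import Cfsg.Agent.Lib.Helper12.OElmE.Defs
import Cfsg.Agent.Lib.Helper65.PHyp.ASolve

set_option autoImplicit false
open scoped MatrixGroups
open Matrix

namespace Cfsg.Agent.Lib.Helper65.OElmE

open Cfsg.Agent.Lib.Helper23.OHyp Cfsg.Agent.Lib.Helper44.OElp
open Cfsg.Agent.Lib.Helper12.PHyp Cfsg.Agent.Lib.Helper12.OElmE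

universe u

/-- [ELLA] a-type on the whole space, which is not of plus type. -/
theorem pkgEllA_of (hADec : Cfsg.Agent.Lib.Helper12.PHyp.PkgADec.{u})
    (hG : Cfsg.Agent.Lib.Helper12.PHyp.PkgGeom2.{u}) (hDual : PkgDual.{u})
    (hSumE : Cfsg.Agent.Lib.Helper44.OElp.PkgSumE.{u})
    (_hE : Cfsg.Agent.Lib.Helper12.PHyp.PkgNdEven.{u}) :
    Cfsg.Agent.Lib.Helper12.OElmE.PkgEllA.{u} := by
  intro F _ _ ι _ _ Q x hStd hnP hA k m hcard hme hm hmk hkm
  have hQ := hStd.nondeg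
  have htop : Module.finrank F (⊤ : Submodule F (ι → F)) = 2 * k + 2 := by
    rw [finrank_top, Module.finrank_fintype_fun_eq_card, hcard]
  have hInvTop : Cfsg.Agent.Lib.Helper23.OHyp.Inv x (⊤ : Submodule F (ι → F)) := le_top
  have hNdTop : Nd Q (⊤ : Submodule F (ι → F)) := by
    intro w _ hw0
    obtain ⟨⟨a, ha⟩, ⟨b, hb⟩⟩ := hQ.nondegenerate w hw0
    exact ⟨⟨a, Submodule.mem_top, ha⟩, ⟨b, Submodule.mem_top, hb⟩⟩
  obtain ⟨s2, V', -, hV'fix, hV'N, hfr, hblocks⟩ := hADec F ι Q x hStd ⊤ hInvTop hNdTop hA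
  rw [htop] at hfr
  have hV'I : Cfsg.Agent.Lib.Helper23.OHyp.Inv x V' :=
    Cfsg.Agent.Lib.Helper65.PHyp.inv_of_le_fixSp hV'fix
  -- `V'` is not of plus type
  have hV'nP : ¬ Plus Q V' := by
    intro hc
    obtain ⟨WA, -, hWAI, hWAN, hWAP, hWAf, hWAperp⟩ := hblocks s2 le_rfl
    obtain ⟨-, hf, hiff⟩ := hSumE F ι Q hQ WA V' hWAN hV'N hWAperp
    have htopeq : WA ⊔ V' = ⊤ := by
      apply Submodule.eq_top_of_finrank_eq
      rw [hf, hWAf, Module.finrank_fintype_fun_eq_card, hcard]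
      omega
    have h1 := hiff (by rw [hWAf, Nat.even_iff]; omega) (by rw [Nat.even_iff]; omega)
    rw [htopeq] at h1
    exact hnP (h1.2 ⟨fun _ => hc, fun _ => hWAP⟩)
  have he1 : 2 ≤ Module.finrank F V' := by
    by_contra hlt
    have h0 : Module.finrank F V' = 0 := by omega
    have hbot : V' = ⊥ := Submodule.finrank_eq_zero.1 h0
    rw [hbot] at hV'nP
    exact hV'nP (Cfsg.Agent.Lib.Helper65.PHyp.plus_bot hQ)
  -- elliptic subspaces of `V'`
  have hell : ∀ e0 : ℕ, e0 % 2 = 0 → 2 ≤ e0 → e0 ≤ Module.finrank F V' → EllIn Q x V' e0 := by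
    intro e0 he0 h2 hle
    by_cases heq : e0 = Module.finrank F V'
    · exact ⟨V', le_rfl, hV'I, hV'N, hV'nP, heq.symm⟩
    · obtain ⟨W0, hW0le, hW0N, hW0P, hW0f⟩ := hG F ι Q hQ hStd.two V' hV'N
        (Module.finrank F V' - e0) (by rw [Nat.even_iff]; omega) (by omega)
      have hH : HypIn Q x V' (Module.finrank F V' - e0) :=
        ⟨W0, hW0le, Cfsg.Agent.Lib.Helper65.PHyp.inv_of_le_fixSp (hW0le.trans hV'fix), hW0N,
          hW0P, hW0f⟩
      have h := hDual F ι Q x hStd V' hV'I hV'N hV'nP _ hH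
      have e : Module.finrank F V' - (Module.finrank F V' - e0) = e0 := by omega
      rwa [e] at h
  -- numerics
  obtain ⟨t, e0, ht, hsum, he0lo, he0hi, he0even⟩ : ∃ t e0 : ℕ, t ≤ s2 ∧ 4 * t + e0 = m ∧
      2 ≤ e0 ∧ e0 ≤ Module.finrank F V' ∧ e0 % 2 = 0 := by
    obtain ⟨j, hj⟩ := hme
    by_cases hm4 : m % 4 = 2
    · by_cases hle : (m - 2) / 4 ≤ s2
      · exact ⟨(m - 2) / 4, 2, hle, by omega, le_rfl, he1, rfl⟩
      · exact ⟨s2, m - 4 * s2, le_rfl, by omega, by omega, by omega, by omega⟩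
    · have hko : Odd k := by
        rcases hkm with h | h
        · exact h
        · exact absurd h hm4
      obtain ⟨i, hi⟩ := hko
      by_cases hle : (m - 4) / 4 ≤ s2
      · exact ⟨(m - 4) / 4, 4, hle, by omega, by omega, by omega, rfl⟩
      · exact ⟨s2, m - 4 * s2, le_rfl, by omega, by omega, by omega, by omega⟩
  obtain ⟨W0, hW0le, hW0I, hW0N, hW0nP, hW0f⟩ := hell e0 he0even he0lo he0hi
  obtain ⟨WA, -, hWAI, hWAN, hWAP, hWAf, hWAperp⟩ := hblocks t ht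
  have hperp : Perp Q WA W0 := fun u hu v hv => hWAperp u hu v (hW0le hv)
  obtain ⟨hN, hf, hiff⟩ := hSumE F ι Q hQ WA W0 hWAN hW0N hperp
  refine ⟨WA ⊔ W0, le_top, inv_sup hWAI hW0I, hN, ?_, ?_⟩
  · intro hc
    have h1 := hiff (by rw [hWAf, Nat.even_iff]; omega) (by rw [hW0f, Nat.even_iff]; exact he0even)
    exact hW0nP ((h1.1 hc).1 hWAP)
  · rw [hf, hWAf, hW0f]
    exact hsum

end Cfsg.Agent.Lib.Helper65.OElmE

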